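import Cfsg.Agent.Lib.Fong.Fixed
import Cfsg.Agent.Lib.BrauerPairs.StableBlock
import Cfsg.Agent.Lib.BlocksNormal.Cover
import Cfsg.Agent.Lib.Cores.Basic

/-!
# Fong's theorem: the characters over an invariant character of a normal `p'`-subgroup

`Over N θ χ`: `θ` is a constituent of `χ` on `N`.
`sameBlock_of_over`: if `L / N` is a `p`-group, `L ≤ N Q` and the `p`-regular elements of `C(Q)` lie in
`N`, the characters over an invariant `θ` form one block (`isPBlock_over`), whose idempotent is that
of `θ` (`blk_over`) and whose defect groups are the Sylow subgroups (`isDefectGroup_over`).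
-/

set_option autoImplicit false

namespace Cfsg.Agent.Fong

open Cfsg Cfsg.Agent.Blocks Cfsg.Agent.BrauerPairs

variable {G : Type*} [Group G] [Fintype G] {p : ℕ} {M : Ideal AlgInt}

/-- `θ` is a constituent of `χ` on `N`. -/
def Over (N : Subgroup G) [Fintype N] (θ : IrrCharacter N) (χ : IrrCharacter G) : Prop :=
  classInner (fun n : N => (χ : G → ℂ) n) (θ : N → ℂ) ≠ 0

/-- `θ` is invariant in `G`. -/
def Invariant (N : Subgroup G) [hN : N.Normal] (θ : IrrCharacter N) : Prop :=
  ∀ (g : G) (n : N), (θ : N → ℂ) ⟨g * n * g⁻¹, hN.conj_mem n n.2 g⟩ = (θ : N → ℂ) n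

variable {N : Subgroup G} [N.Normal] [Fintype N] {θ : IrrCharacter N}

theorem isPBlock_singleton (hM : IsPModular p M) (hpN : ¬ p ∣ Nat.card N) (θ : IrrCharacter N) :
    IsPBlock M ({θ} : Set (IrrCharacter N)) :=
  ⟨θ, (BlocksNormal.singleton_of_pPrime N hM hpN θ).symm⟩

omit [N.Normal] in
theorem blockCoeff_singleton (θ : IrrCharacter N) (n : N) :
    blockCoeff ({θ} : Set (IrrCharacter N)) n =
      (θ : N → ℂ) 1 / (Nat.card N : ℂ) * (θ : N → ℂ) n⁻¹ := by
  rw [blockCoeff, finsum_mem_singleton,
    Char.IsCharacter.apply_inv (Char.IsIrrCharacter.isCharacter θ.2) n]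
  ring

theorem conjFun_blockCoeff (hinv : Invariant N θ) (x : G) :
    CliffordChar.conjFun N x (blockCoeff ({θ} : Set (IrrCharacter N))) =
      blockCoeff ({θ} : Set (IrrCharacter N)) := by
  funext n
  rw [CliffordChar.conjFun_apply, blockCoeff_singleton, blockCoeff_singleton]
  congr 1
  rw [← hinv x⁻¹ n⁻¹]
  exact congrArg (θ : N → ℂ) (Subtype.ext (by simp [mul_assoc]))

omit [N.Normal] in
theorem subgroupBlockCoeff_eq_extend (b : Set (IrrCharacter N)) :
    subgroupBlockCoeff N b = extendByZero N (blockCoeff b) := by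
  funext x
  unfold subgroupBlockCoeff
  split_ifs with h
  · rw [Char.extendByZero_mem _ _ h]
  · rw [Char.extendByZero_not_mem _ _ h]

/-- The idempotent of `θ` as a `cu`. -/
theorem cu_one_eq (hM : IsPModular p M) {L : Subgroup G} {T : G → ℂ} (hT : FongExt N L θ T) :
    cu M θ T 1 = bIdem M N ({θ} : Set (IrrCharacter N)) := by
  ext x
  rw [coeff_bIdem hM, cu, coeff_red]
  congr 1
  by_cases hx : x ∈ N
  · rw [cuFun, if_pos hx, subgroupBlockCoeff, dif_pos hx, blockCoeff_singleton, one_mul]
    congr 1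
    exact hT.eq ⟨x⁻¹, inv_mem hx⟩
  · rw [cuFun, if_neg hx, subgroupBlockCoeff, dif_neg hx]

theorem fixed_thetaIdem (hM : IsPModular p M) (hinv : Invariant N θ) :
    Fixed ⊤ (bIdem M N ({θ} : Set (IrrCharacter N))) := by
  rw [← red_subgroupBlockCoeff hM, subgroupBlockCoeff_eq_extend]
  exact fixed_red (RealBlock.isClassFunction_extendByZero N _ (conjFun_blockCoeff hinv))

open scoped Classical in
theorem lamG_thetaIdem (hM : IsPModular p M) (hpN : ¬ p ∣ Nat.card N) (hinv : Invariant N θ)
    (χ : IrrCharacter G) :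
    lamG M χ (bIdem M N ({θ} : Set (IrrCharacter N))) = if Over N θ χ then 1 else 0 := by
  have hb := isPBlock_singleton hM hpN θ
  have hcl := RealBlock.isClassFunction_extendByZero N _ (conjFun_blockCoeff hinv)
  have hR : ∀ x, MemLocalRing M (extendByZero N (blockCoeff ({θ} : Set (IrrCharacter N))) x) :=
    fun x => by
      rw [← subgroupBlockCoeff_eq_extend]
      exact memR_subgroupBlockCoeff hM hb x
  rw [← red_subgroupBlockCoeff hM, subgroupBlockCoeff_eq_extend, lamG_red hM hcl hR]
  by_cases h : Over N θ χ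
  · rw [if_pos h, RealBlock.omega_extendByZero N _ (conjFun_blockCoeff hinv) χ θ h,
      blockCoeff_eq_ofOmega, omega_ofOmega, blockInd_of_mem (Set.mem_singleton θ), res_one hM]
  · obtain ⟨ψ, hψ⟩ := BlocksNormal.exists_constituent N χ
    have hne : ψ ∉ ({θ} : Set (IrrCharacter N)) := fun he => h (by
      rw [Set.mem_singleton_iff] at he
      rw [Over, ← he]
      exact hψ)
    rw [if_neg h, RealBlock.omega_extendByZero N _ (conjFun_blockCoeff hinv) χ ψ hψ,
      blockCoeff_eq_ofOmega, omega_ofOmega, blockInd_of_notMem hne, res_zero hM]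

/-- A block with a member over `θ` lies below the idempotent of `θ`. -/
theorem thetaIdem_mul_blk (hM : IsPModular p M) (hpN : ¬ p ∣ Nat.card N) (hinv : Invariant N θ)
    {B : Set (IrrCharacter G)} (hB : IsPBlock M B) {χ : IrrCharacter G} (hχ : χ ∈ B)
    (hover : Over N θ χ) :
    bIdem M N ({θ} : Set (IrrCharacter N)) * blk M B = blk M B := by
  classical
  rcases mul_blk_cases hM (fixed_thetaIdem hM hinv)
    (bIdem_mul_self hM (isPBlock_singleton hM hpN θ)) hB hχ with ⟨-, h⟩ | ⟨h, -⟩
  · exact h
  · rw [lamG_thetaIdem hM hpN hinv, if_pos hover] at h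
    have := res_nontrivial hM
    exact absurd h one_ne_zero

variable [Fact p.Prime]

/-- The characters over `θ` lie in one block. -/
theorem sameBlock_of_over (hM : IsPModular p M) (hpN : ¬ p ∣ Nat.card N) {L : Subgroup G}
    [L.Normal] (hNL : N ≤ L) {k : ℕ} (hLN : N.relIndex L = p ^ k) {Q : Subgroup G}
    (hQ : IsPGroup p Q) (hQL : Q ≤ L) (hLQ : L ≤ N ⊔ Q)
    (hreg : ∀ x ∈ Subgroup.centralizer (Q : Set G), ¬ p ∣ orderOf x → x ∈ N)
    (hinv : Invariant N θ) {χ χ' : IrrCharacter G} (hχ : Over N θ χ) (hχ' : Over N θ χ') :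
    SameBlock M (χ : G → ℂ) (χ' : G → ℂ) := by
  classical
  obtain ⟨T, hT⟩ := exists_fongExt N L hNL hpN hLN θ hinv
  have := res_charP hM
  have := res_isDomain hM
  set e := bIdem M N ({θ} : Set (IrrCharacter N)) with he
  have hb := isPBlock_singleton hM hpN θ
  have hefix : Fixed ⊤ e := fixed_thetaIdem hM hinv
  have hee : e * e = e := bIdem_mul_self hM hb
  -- a block below `e`
  have key : ∀ B : Set (IrrCharacter G), IsPBlock M B → e * blk M B = blk M B →
      br Q (blk M B) ≠ 0 ∧
        ∃ c : Res M, br Q (blk M B) = MonoidAlgebra.single (1 : G) c * br Q e := by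
    intro B hB hle
    refine ⟨br_ne_zero hM hpN hNL hT hQ hQL hLQ (fixed_blk B) (blk_mul_self hM hB) ?_
      (blk_ne_zero hM hB), ?_⟩
    · rw [cu_one_eq hM hT, ← he, ← hefix.commute SuppIn.top]
      exact hle
    -- the part supported on `N`
    set φ : N → ℂ := fun n => blockCoeff B (n : G) with hφ
    have hφc : IsClassFunction N φ :=
      BlocksNormal.isClassFunction_restrict (Blocks.isClassFunction_blockCoeff B) N
    have hφR : ∀ n, MemLocalRing M (φ n) := fun n => Blocks.memR_blockCoeff hM hB _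
    set t : MonoidAlgebra (Res M) G := emb N (red M φ) with ht
    have hbrt : br Q (blk M B) = br Q t := by
      ext x
      rw [coeff_br, coeff_br]
      by_cases hx : x ∈ Subgroup.centralizer (Q : Set G)
      · rw [if_pos hx, if_pos hx, blk, coeff_red]
        by_cases hxN : x ∈ N
        · rw [ht, show (emb N (red M φ)).coeff x = _ from coeff_emb_coe N _ ⟨x, hxN⟩, coeff_red]
        · rw [ht, suppIn_emb N _ x hxN, blockCoeff_eq_ofOmega, ofOmega_singular_eq_zero hM
            (blockInd_mem_intRing hM hB) (by_contra fun h => hxN (hreg x hx h)), res_zero hM]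
      · rw [if_neg hx, if_neg hx]
    have hte : t * e = emb N (MonoidAlgebra.single (1 : N) (res M (Blocks.omega (θ : N → ℂ) φ))) *
        e := by
      set w := Blocks.omega (θ : N → ℂ) φ with hw
      have hwR : MemLocalRing M w := Blocks.memR_omega hM hφc hφR θ
      rw [ht, he, bIdem, ← map_mul, ← map_mul]
      congr 1
      rw [blk, ← red_conv hM hφR (Blocks.memR_blockCoeff hM hb)]
      have hconv : Blocks.conv φ (blockCoeff ({θ} : Set (IrrCharacter N))) =
          w • blockCoeff ({θ} : Set (IrrCharacter N)) := by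
        conv_lhs => rw [← ofOmega_omega hφc, blockCoeff_eq_ofOmega, ← ofOmega_mul]
        rw [blockCoeff_eq_ofOmega, ← ofOmega_smul]
        congr 1
        funext ψ
        rw [Pi.mul_apply, Pi.smul_apply, smul_eq_mul]
        by_cases hψ : ψ = θ
        · subst hψ; rfl
        · rw [blockInd_of_notMem (show ψ ∉ ({θ} : Set (IrrCharacter N)) from hψ), mul_zero, mul_zero]
      ext m
      rw [hconv, MonoidAlgebra.coeff_single_mul_apply, inv_one, one_mul, coeff_red, coeff_red,
        Pi.smul_apply, smul_eq_mul, res_mul hM hwR (Blocks.memR_blockCoeff hM hb m)]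
    refine ⟨res M (Blocks.omega (θ : N → ℂ) φ), ?_⟩
    have htfix : Fixed Q t := fun u hu => by
      ext x
      rw [coeff_cj]
      by_cases hx : x ∈ N
      · have hx' : u⁻¹ * x * u ∈ N := by
          simpa using Subgroup.Normal.conj_mem ‹N.Normal› x hx u⁻¹
        rw [ht, show (emb N (red M φ)).coeff x = _ from coeff_emb_coe N _ ⟨x, hx⟩,
          show (emb N (red M φ)).coeff (u⁻¹ * x * u) = _ from coeff_emb_coe N _ ⟨_, hx'⟩,
          coeff_red, coeff_red]
        congr 1
        show blockCoeff B (u⁻¹ * x * u) = blockCoeff B x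
        simpa using Blocks.isClassFunction_blockCoeff B x u⁻¹
      · rw [ht, suppIn_emb N _ x hx, suppIn_emb N _ _ fun h => hx (by
          simpa [mul_assoc] using Subgroup.Normal.conj_mem ‹N.Normal› _ h u)]
    calc br Q (blk M B) = br Q (blk M B * e) := by rw [← hefix.commute SuppIn.top, hle]
      _ = br Q t * br Q e := by
          rw [br_mul hQ ((fixed_blk B).mono le_top) (hefix.mono le_top), hbrt]
      _ = br Q (t * e) := (br_mul hQ htfix (hefix.mono le_top)).symm
      _ = _ := by
          rw [hte]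
          ext x
          simp only [coeff_br, emb, MonoidAlgebra.mapDomainRingHom_apply,
            MonoidAlgebra.mapDomain_single, map_one, MonoidAlgebra.coeff_single_mul_apply, inv_one,
            one_mul]
          split_ifs <;> simp
  set B := blockOf M (χ : G → ℂ) with hBdef
  set B' := blockOf M (χ' : G → ℂ) with hB'def
  have hB : IsPBlock M B := ⟨χ, rfl⟩
  have hB' : IsPBlock M B' := ⟨χ', rfl⟩
  have hle := thetaIdem_mul_blk hM hpN hinv hB (mem_blockOf_self hM χ) hχ
  have hle' := thetaIdem_mul_blk hM hpN hinv hB' (mem_blockOf_self hM χ') hχ'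
  by_contra hne
  have hne' : B ≠ B' := fun h => hne (by
    have : χ' ∈ B := h ▸ mem_blockOf_self hM χ'
    exact this)
  obtain ⟨h1, c, hc⟩ := key B hB hle
  obtain ⟨h2, c', hc'⟩ := key B' hB' hle'
  have h0 : br Q (blk M B) * br Q (blk M B') = 0 := by
    rw [← br_mul hQ ((fixed_blk B).mono le_top) ((fixed_blk B').mono le_top),
      blk_mul_of_ne hM hB hB' hne', br_zero]
  have hse : ∀ (r : Res M) (w : MonoidAlgebra (Res M) G),
      w * MonoidAlgebra.single (1 : G) r = MonoidAlgebra.single (1 : G) r * w := fun r w => by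
    ext z
    rw [MonoidAlgebra.coeff_single_mul_apply, MonoidAlgebra.coeff_mul_single_apply, inv_one,
      one_mul, mul_one, mul_comm]
  have h3 : MonoidAlgebra.single (1 : G) (c * c') * br Q e = 0 := by
    rw [← h0, hc, hc', mul_assoc, ← mul_assoc (br Q e), hse, mul_assoc,
      ← br_mul hQ (hefix.mono le_top) (hefix.mono le_top), hee, ← mul_assoc,
      MonoidAlgebra.single_mul_single, one_mul]
  obtain ⟨z, hz⟩ : ∃ z, (br Q e).coeff z ≠ 0 := by
    by_contra hno
    push Not at hno
    refine h1 ?_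
    rw [hc, show br Q e = 0 from MonoidAlgebra.coeff_injective (Finsupp.ext hno), mul_zero]
  have h4 := congrArg (fun w : MonoidAlgebra (Res M) G => w.coeff z) h3
  simp only [MonoidAlgebra.coeff_single_mul_apply, inv_one, one_mul, MonoidAlgebra.coeff_zero,
    Finsupp.zero_apply] at h4
  rcases mul_eq_zero.1 ((mul_eq_zero.1 h4).resolve_right hz) with h | h
  · exact h1 (by rw [hc, h, MonoidAlgebra.single_zero, zero_mul])
  · exact h2 (by rw [hc', h, MonoidAlgebra.single_zero, zero_mul])

variable {B : Set (IrrCharacter G)} (hBdef : ∀ χ, χ ∈ B ↔ Over N θ χ)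
include hBdef

/-- The characters over `θ` form a block. -/
theorem isPBlock_over (hM : IsPModular p M) (hpN : ¬ p ∣ Nat.card N) {L : Subgroup G} [L.Normal]
    (hNL : N ≤ L) {k : ℕ} (hLN : N.relIndex L = p ^ k) {Q : Subgroup G} (hQ : IsPGroup p Q)
    (hQL : Q ≤ L) (hLQ : L ≤ N ⊔ Q)
    (hreg : ∀ x ∈ Subgroup.centralizer (Q : Set G), ¬ p ∣ orderOf x → x ∈ N)
    (hinv : Invariant N θ) : IsPBlock M B := by
  classical
  obtain ⟨χ₀, hχ₀⟩ := BlocksNormal.exists_over N θ
  refine ⟨χ₀, Set.ext fun χ => ⟨fun h =>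
    sameBlock_of_over hM hpN hNL hLN hQ hQL hLQ hreg hinv hχ₀ ((hBdef χ).1 h),
    fun h => (hBdef χ).2 ?_⟩⟩
  by_contra hn
  have h1 := lamG_congr_of_sameBlock hM (fixed_thetaIdem hM hinv) (show SameBlock M _ _ from h)
  rw [lamG_thetaIdem hM hpN hinv, if_pos (show Over N θ χ₀ from hχ₀),
    lamG_thetaIdem hM hpN hinv, if_neg hn] at h1
  have := res_nontrivial hM
  exact one_ne_zero h1

omit [Fact p.Prime] in
/-- The idempotent of the block of the characters over `θ` is that of `θ`. -/
theorem blk_over (hM : IsPModular p M) (hpN : ¬ p ∣ Nat.card N) (hinv : Invariant N θ)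
    (hB : IsPBlock M B) : bIdem M N ({θ} : Set (IrrCharacter N)) = blk M B := by
  classical
  have := Fintype.ofFinite (IrrCharacter G)
  obtain ⟨χ₀, hχ₀⟩ := isPBlock_nonempty hM hB
  set e := bIdem M N ({θ} : Set (IrrCharacter N)) with he
  calc e = e * ∑ C ∈ Finset.univ.image (fun χ : IrrCharacter G => blockOf M (χ : G → ℂ)),
        blk M C := by rw [sum_blk hM, mul_one]
    _ = e * blk M B := by
        rw [Finset.mul_sum, Finset.sum_eq_single B]
        · intro C hC hne
          obtain ⟨χ, -, rfl⟩ := Finset.mem_image.1 hC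
          rcases mul_blk_cases hM (fixed_thetaIdem hM hinv)
            (bIdem_mul_self hM (isPBlock_singleton hM hpN θ)) ⟨χ, rfl⟩
            (mem_blockOf_self hM χ) with ⟨h, -⟩ | ⟨-, h⟩
          · rw [lamG_thetaIdem hM hpN hinv] at h
            by_cases hov : Over N θ χ
            · exact absurd (isPBlock_eq_of_mem hM ⟨χ, rfl⟩ hB (mem_blockOf_self hM χ)
                ((hBdef χ).2 hov)) hne
            · rw [if_neg hov] at h
              have := res_nontrivial hM
              exact absurd h zero_ne_one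
          · exact h
        · intro h
          exact absurd (Finset.mem_image.2 ⟨χ₀, Finset.mem_univ _,
            (isPBlock_eq_blockOf hM hB hχ₀).symm⟩) h
    _ = blk M B := thetaIdem_mul_blk hM hpN hinv hB hχ₀ ((hBdef χ₀).1 hχ₀)

/-- The defect groups of the block over `θ` are the Sylow subgroups. -/
theorem isDefectGroup_over (hM : IsPModular p M) (hpN : ¬ p ∣ Nat.card N) (hinv : Invariant N θ)
    (hB : IsPBlock M B) :
    (∀ P : Sylow p G, IsDefectGroup p M B (P : Subgroup G)) ∧
      ∀ D : Subgroup G, IsDefectGroup p M B D → ∃ P : Sylow p G, D = (P : Subgroup G) := by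
  classical
  have heq := blk_over hBdef hM hpN hinv hB
  have hsyl : ∀ D : Subgroup G, IsDefectGroup p M B D → ∃ P : Sylow p G, D = (P : Subgroup G) := by
    intro D hD
    have hDp := isPGroup_defectGroup hM hD
    have hidx := not_dvd_index_sup_defect hM hB (isPBlock_singleton hM hpN θ) heq hD
    have h1 : ¬ p ∣ D.index := by
      intro hd
      rw [← Subgroup.relIndex_mul_index (le_sup_left : D ≤ D ⊔ N)] at hd
      rcases (Fact.out : p.Prime).dvd_mul.1 hd with h | h
      · refine hpN (h.trans ?_)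
        have h2 := Cores.card_sup_dvd D N
        rw [← Subgroup.card_mul_index (D.subgroupOf (D ⊔ N)),
          Cores.card_subgroupOf le_sup_left] at h2
        exact (Nat.mul_dvd_mul_iff_left Nat.card_pos).1 h2
      · exact hidx h
    exact ⟨hDp.toSylow h1, rfl⟩
  refine ⟨fun P => ?_, hsyl⟩
  obtain ⟨D, hD⟩ : ∃ D, IsDefectGroup p M B D := by
    obtain ⟨D, g, hg, hgD⟩ := Blocks.exists_isDefectGroup (p := p) hM hB
    exact ⟨D, g, hg, hgD⟩
  obtain ⟨P₀, rfl⟩ := hsyl D hD
  obtain ⟨x, hx⟩ := MulAction.exists_smul_eq G P₀ P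
  have h := isDefectGroup_conjSub hM hD x
  have : conjSub x (P₀ : Subgroup G) = (P : Subgroup G) := by rw [← hx]; rfl
  rwa [this] at h

end Cfsg.Agent.Fong
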