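import Cfsg.Agent.Lib.Fong.Setup
import Cfsg.Agent.Lib.GlauberChar.Ambient
import Cfsg.Agent.Lib.Coprime.PQ
import Cfsg.Agent.Lib.Components.HatLayer
import Cfsg.Agent.Lib.Blocks.Induced

/-!
# The block over an invariant character is of principal type

For a `p`-subgroup `R`, exactly one block of `C(R)` induces the block of the characters over `θ`:
the Brauer image of the idempotent of `θ` is the idempotent of the Glauberman correspondent, over
which `C(R)` has a single block.
-/

set_option autoImplicit false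

open scoped ComplexConjugate

namespace Cfsg.Agent.Fong

open Cfsg Cfsg.Agent.Blocks Cfsg.Agent.BrauerPairs

variable {G : Type*} [Group G] [Fintype G] {p : ℕ} [hp : Fact p.Prime] {M : Ideal AlgInt}

/-- Blocks of `C(R)` inducing `B` are the pairs of `B` at `R`. -/
theorem isInducedBlock_centralizer_iff (hM : IsPModular p M) {R : Subgroup G} (hR : IsPGroup p R)
    {B : Set (IrrCharacter G)} (hB : IsPBlock M B) :
    ∀ f : Set (IrrCharacter (Subgroup.centralizer (R : Set G))), IsInducedBlock M (Subgroup.centralizer (R : Set G)) f B ↔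
      IsPBlock M f ∧ br R (blk M B) * cb M R f = cb M R f := by
  classical
  set H := Subgroup.centralizer (R : Set G) with hH
  have := Fintype.ofFinite H
  have hom : ∀ ξ : IrrCharacter H, brauerOmega R (blockCoeff B) (ξ : H → ℂ) =
      Blocks.omega (ξ : H → ℂ) (fun k : H => blockCoeff B (k : G)) := fun ξ => by
    rw [brauerOmega, finsum_eq_sum_of_fintype, omega_eq_sum, Finset.sum_div]
  have hone : ∀ χ ∈ B, Blocks.omega (χ : G → ℂ) (blockCoeff B) = 1 := fun χ hχ => by
    rw [blockCoeff_eq_ofOmega, omega_ofOmega, blockInd_of_mem hχ]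
  intro f
  constructor
  · intro h
    refine ⟨h.1, ((isBrauerPairOf_iff hM).1 ⟨⟨hR, h.1⟩, hB, fun ξ hξ => ?_⟩).2.2⟩
    obtain ⟨χ, hχ⟩ := isPBlock_nonempty hM hB
    have h1 := BlocksNormal.omega_restrict_congr hM h hξ hχ (Blocks.isClassFunction_blockCoeff B)
      (memR_blockCoeff hM hB)
    rwa [hone χ hχ, ← hom ξ] at h1
  · rintro ⟨hf, hle⟩
    obtain ⟨ξ, hξ⟩ := isPBlock_nonempty hM hf
    obtain ⟨B', hB', -, hval⟩ :=
      exists_block_brauerPhi hM hR (le_refl H) (centralizer_le_normalizer hM R) ξ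
    have hind : IsInducedBlock M H f B' := by
      refine ⟨hf, hB', fun η hη χ hχ g => ?_⟩
      have h1 := hval χ hχ _ (classInd_mem_intRing hM g)
      rw [← brauerCentralChar_eq_phi hM] at h1
      simp only [omegaFun, omega_classInd] at h1
      have h2 : brauerCentralChar R H (ξ : H → ℂ) g = inducedCentralChar H (ξ : H → ℂ) g := by
        rw [brauerCentralChar, inducedCentralChar]
        congr 1
        funext k
        have hk : ((k : H) : G) ∈ Subgroup.centralizer (R : Set G) := k.2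
        simp only [Set.mem_ofPred_eq, hk, and_true]
      rw [h2] at h1
      exact memI_sub_trans hM (inducedCentralChar_congr_sameBlock hM hf hη hξ g) h1
    suffices B = B' by rwa [this]
    obtain ⟨χ, hχ⟩ := isPBlock_nonempty hM hB'
    by_contra hne
    have hn : χ ∉ B := fun h => hne (isPBlock_eq_of_mem hM hB hB' h hχ)
    have h1 := ((isBrauerPairOf_iff (p := p) hM).2 ⟨⟨hR, hf⟩, hB, hle⟩).2.2 ξ hξ
    rw [hom ξ] at h1
    have h2 := BlocksNormal.omega_restrict_congr hM hind hξ hχ (Blocks.isClassFunction_blockCoeff B)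
      (memR_blockCoeff hM hB)
    have h4 : Blocks.omega (χ : G → ℂ) (blockCoeff B) = 0 := by
      rw [blockCoeff_eq_ofOmega, omega_ofOmega, blockInd_of_notMem hn]
    rw [h4, sub_zero] at h2
    exact not_memI_one hM (by simpa using memI_sub hM h2 h1)

/-- A `p`-regular element centralising `R` and the part of `L` centralising `R` lies in `N`. -/
theorem mem_of_centralizes {N L Q R Q' : Subgroup G} [N.Normal] [L.Normal]
    (hpN : ¬ p ∣ Nat.card N) (hNL : N ≤ L) {k : ℕ} (hLN : N.relIndex L = p ^ k)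
    (hQ : IsPGroup p Q) (hQL : Q ≤ L) (hLQ : L ≤ N ⊔ Q)
    (hCQ : Subgroup.centralizer (Q : Set G) ≤ L) (hR : IsPGroup p R)
    (hQ' : L ⊓ Subgroup.centralizer (R : Set G) ≤ N ⊔ Q') {x : G}
    (hxR : x ∈ Subgroup.centralizer (R : Set G)) (hxQ' : x ∈ Subgroup.centralizer (Q' : Set G))
    (hreg : ¬ p ∣ orderOf x) : x ∈ N := by
  set π := QuotientGroup.mk' N with hπ
  have hcop : (Nat.card N).Coprime p := (hp.out.coprime_iff_not_dvd.2 hpN).symm
  have hker : ∀ A : Subgroup G, (N ⊔ A).map π = A.map π := fun A => by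
    rw [Subgroup.map_sup, (Subgroup.map_eq_bot_iff N).2 (QuotientGroup.ker_mk' N).ge, bot_sup_eq]
  have hLmap : L.map π = Q.map π := by
    rw [← hker Q]
    exact le_antisymm (Subgroup.map_mono hLQ) (Subgroup.map_mono (sup_le hNL hQL))
  have hU : IsPGroup p (L.map π) := hLmap ▸ hQ.map π
  have : (L.map π).Normal := Subgroup.Normal.map ‹L.Normal› π (QuotientGroup.mk'_surjective N)
  have hnorm : Subgroup.normalizer ((L.map π : Subgroup (G ⧸ N)) : Set (G ⧸ N)) = ⊤ :=
    Subgroup.normalizer_eq_top_iff.2 this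
  have hA : (Nat.card (Subgroup.zpowers (π x))).Coprime p := by
    rw [Nat.card_zpowers]
    exact ((hp.out.coprime_iff_not_dvd.2 hreg).symm).coprime_dvd_left (orderOf_map_dvd π x)
  have hPQ : R.map π ≤ Subgroup.centralizer ((Subgroup.zpowers (π x) : Subgroup (G ⧸ N)) : Set _) := by
    rintro _ ⟨r, hr, rfl⟩
    rw [Subgroup.mem_centralizer_iff]
    intro y hy
    obtain ⟨j, rfl⟩ := Subgroup.mem_zpowers_iff.1 hy
    have hc : Commute r x := Subgroup.mem_centralizer_iff.1 hxR r hr
    exact ((hc.map π).zpow_right j).eq.symm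
  have hC : L.map π ⊓ Subgroup.centralizer ((R.map π : Subgroup (G ⧸ N)) : Set _) ≤
      Subgroup.centralizer ((Subgroup.zpowers (π x) : Subgroup (G ⧸ N)) : Set _) := by
    rintro y ⟨hyL, hyR⟩
    rw [Components.centralizer_map_of_coprime hR N hcop] at hyR
    obtain ⟨g, hg, rfl⟩ := hyR
    have hgL : g ∈ L := by
      have h1 : g ∈ (L.map π).comap π := hyL
      rwa [Subgroup.comap_map_eq, QuotientGroup.ker_mk', sup_eq_left.2 hNL] at h1
    have h2 : π g ∈ Q'.map π := hker Q' ▸ Subgroup.mem_map_of_mem π (hQ' ⟨hgL, hg⟩)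
    obtain ⟨q, hq, hqg⟩ := h2
    rw [Subgroup.mem_centralizer_iff, ← hqg]
    intro z hz
    obtain ⟨j, rfl⟩ := Subgroup.mem_zpowers_iff.1 hz
    have hc : Commute q x := Subgroup.mem_centralizer_iff.1 hxQ' q hq
    exact ((hc.map π).zpow_right j).eq.symm
  have h := Coprime.thompson_pq p (hR.map π) hA hU hPQ (hnorm ▸ le_top) (hnorm ▸ le_top) hC
    (Subgroup.mem_zpowers (π x))
  rw [hLmap, Components.centralizer_map_of_coprime hQ N hcop] at h
  obtain ⟨c, hc, hcx⟩ := h
  have hxL : x ∈ L := by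
    have h1 : x ∈ (L.map π).comap π := ⟨c, hCQ hc, hcx⟩
    rwa [Subgroup.comap_map_eq, QuotientGroup.ker_mk', sup_eq_left.2 hNL] at h1
  exact mem_of_mem_of_pRegular hLN hxL hreg

/-- The block over `θ` is of principal type. -/
theorem principal_type {N : Subgroup G} [N.Normal] [Fintype N] {θ : IrrCharacter N}
    {B : Set (IrrCharacter G)} (hBdef : ∀ χ, χ ∈ B ↔ Over N θ χ) (hM : IsPModular p M)
    (hpN : ¬ p ∣ Nat.card N) (hinv : Invariant N θ) (hB : IsPBlock M B) {L : Subgroup G}
    [L.Normal] (hNL : N ≤ L) {k : ℕ} (hLN : N.relIndex L = p ^ k) {Q : Subgroup G}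
    (hQ : IsPGroup p Q) (hQL : Q ≤ L) (hLQ : L ≤ N ⊔ Q)
    (hCQ : Subgroup.centralizer (Q : Set G) ≤ L) {R : Subgroup G} (hR : IsPGroup p R) :
    ∃! f : Set (IrrCharacter (Subgroup.centralizer (R : Set G))),
      IsInducedBlock M (Subgroup.centralizer (R : Set G)) f B := by
  classical
  simp only [isInducedBlock_centralizer_iff hM hR hB]
  have := res_charP hM
  set H := Subgroup.centralizer (R : Set G) with hH
  have := Fintype.ofFinite H
  set N' := N.subgroupOf H with hN'
  have := Fintype.ofFinite N'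
  set e := bIdem M N ({θ} : Set (IrrCharacter N)) with he
  have heq : e = blk M B := blk_over hBdef hM hpN hinv hB
  have hzc : IsCentralIn H (br R (blk M B)) := br_blk_central hM R B
  have hzz : br R (blk M B) * br R (blk M B) = br R (blk M B) := br_blk_mul_self hM hR hB
  have hz0 : br R (blk M B) ≠ 0 := by
    obtain ⟨P, hP⟩ := hR.exists_le_sylow
    have h1 := br_defectGroup_ne_zero hM ((isDefectGroup_over hBdef hM hpN hinv hB).1 P)
    exact fun h => h1 (by rw [← br_br hP, h, br_zero])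
  obtain ⟨f₀, hf₀, hle₀⟩ := exists_block_le hM hzc hzz hz0
  refine ⟨f₀, ⟨hf₀, hle₀⟩, ?_⟩
  rintro f ⟨hf, hle⟩
  -- the group theory in `H`
  set L' := L.subgroupOf H with hL'
  obtain ⟨S⟩ : Nonempty (Sylow p L') := inferInstance
  set Q'' : Subgroup H := (S : Subgroup L').map L'.subtype with hQ''
  have hQ''L : Q'' ≤ L' := Subgroup.map_subtype_le _
  have hQ''S : ¬ p ∣ Q''.relIndex L' := by
    rw [Subgroup.relIndex, hQ'', Subgroup.subgroupOf,
      Subgroup.comap_map_eq_self_of_injective L'.subtype_injective]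
    exact S.not_dvd_index
  have hN'L' : N' ≤ L' := fun x hx => hNL hx
  obtain ⟨k', hk'⟩ : ∃ k', N'.relIndex L' = p ^ k' := by
    have h1 : N'.relIndex L' = N.relIndex (L ⊓ H) := by
      rw [hN', Subgroup.subgroupOf, Subgroup.relIndex_comap, hL', Subgroup.subgroupOf_map_subtype]
    have h2 : N'.relIndex L' ∣ p ^ k := by
      rw [h1, ← hLN]
      have h3 := Subgroup.relIndex_ker (L ⊓ H) (QuotientGroup.mk' N)
      have h4 := Subgroup.relIndex_ker L (QuotientGroup.mk' N)
      rw [QuotientGroup.ker_mk'] at h3 h4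
      rw [h3, h4]
      exact Subgroup.card_dvd_of_le (Subgroup.map_mono inf_le_left)
    obtain ⟨j, -, hj⟩ := (Nat.dvd_prime_pow hp.out).1 h2
    exact ⟨j, hj⟩
  have hpN' : ¬ p ∣ Nat.card N' := fun h => hpN (h.trans (by
    rw [← Subgroup.card_map_of_injective H.subtype_injective (K := N'),
      hN', Subgroup.subgroupOf_map_subtype]
    exact Subgroup.card_dvd_of_le inf_le_left))
  have hL'Q'' := le_sup_of_not_dvd hN'L' hk' hQ''L hQ''S
  have hreg' : ∀ x ∈ Subgroup.centralizer (Q'' : Set H), ¬ p ∣ orderOf x → x ∈ N' := by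
    intro x hx hxr
    refine mem_of_centralizes (Q' := Q''.map H.subtype) hpN hNL hLN hQ hQL hLQ hCQ hR ?_ x.2 ?_
      (by simpa [Subgroup.orderOf_coe] using hxr)
    · rintro g ⟨hgL, hgH⟩
      have h1 : (⟨g, hgH⟩ : H) ∈ N' ⊔ Q'' := hL'Q'' hgL
      have h2 : g ∈ (N' ⊔ Q'').map H.subtype := ⟨_, h1, rfl⟩
      rw [Subgroup.map_sup, hN', Subgroup.subgroupOf_map_subtype] at h2
      exact (sup_le_sup_right (inf_le_left : N ⊓ H ≤ N) (Q''.map H.subtype) :) h2
    · rintro _ ⟨q, hq, rfl⟩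
      exact congrArg Subtype.val (Subgroup.mem_centralizer_iff.1 hx q hq)
  -- the Glauberman correspondent
  let zf : N' → ℂ := fun n => blockCoeff ({θ} : Set (IrrCharacter N)) ⟨((n : H) : G), n.2⟩
  have hzfinv : ∀ h : H, CliffordChar.conjFun N' h zf = zf := by
    intro h
    funext n
    have h1 := congrFun (conjFun_blockCoeff (N := N) hinv (h : G)) ⟨((n : H) : G), n.2⟩
    rw [CliffordChar.conjFun_apply] at h1 ⊢
    exact h1
  have hzf : pull H (br R (blk M B)) = red M (extendByZero N' zf) := by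
    ext h
    rw [coeff_pull, coeff_br, if_pos h.2, ← heq, he, coeff_bIdem hM, coeff_red]
    congr 1
    by_cases hh : (h : G) ∈ N
    · rw [subgroupBlockCoeff, dif_pos hh, Char.extendByZero_mem _ _ (show h ∈ N' from hh)]
    · rw [subgroupBlockCoeff, dif_neg hh, Char.extendByZero_not_mem _ _ (show h ∉ N' from hh)]
  let θC : N' → ℂ := fun n => (θ : N → ℂ) ⟨((n : H) : G), n.2⟩
  have hθC : IsCharacter N' θC :=
    Char.IsCharacter.comp_hom (Char.IsIrrCharacter.isCharacter θ.2)
      { toFun := fun n : N' => (⟨((n : H) : G), n.2⟩ : N)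
        map_one' := rfl
        map_mul' := fun _ _ => rfl }
  have hzfR : ∀ x, MemLocalRing M (extendByZero N' zf x) := fun x => by
    by_cases hx : x ∈ N'
    · rw [Char.extendByZero_mem _ _ hx]
      exact memR_blockCoeff hM (isPBlock_singleton hM hpN θ) _
    · rw [Char.extendByZero_not_mem _ _ hx]
      exact memR_zero hM
  have hnd : ∀ ψ : IrrCharacter N', ¬ MemLocalIdeal M (Blocks.omega (ψ : N' → ℂ) zf) →
      ∀ m : ℕ, classInner θC (ψ : N' → ℂ) = m → ¬ p ∣ m := by
    intro ψ hψ m hm hdvd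
    refine hψ ?_
    obtain ⟨t, ht0, ht, htdvd⟩ := Char.IsIrrCharacter.degree_dvd_card ψ.2
    obtain ⟨c, hc⟩ := htdvd
    have hsum : ∑ n : N', zf n * (ψ : N' → ℂ) n =
        (θ : N → ℂ) 1 / (Nat.card N : ℂ) * (Nat.card N' : ℂ) * conj (classInner θC (ψ : N' → ℂ)) := by
      rw [classInner, map_mul, map_inv₀, Complex.conj_natCast, ← mul_assoc,
        mul_assoc _ (Nat.card N' : ℂ), mul_inv_cancel₀ card_ne_zero_C, mul_one, map_sum,
        Finset.mul_sum]
      refine Finset.sum_congr rfl fun n _ => ?_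
      simp only [zf, θC, blockCoeff_singleton, map_mul, Complex.conj_conj,
        Char.IsCharacter.apply_inv (Char.IsIrrCharacter.isCharacter θ.2)]
      ring
    have hom : Blocks.omega (ψ : N' → ℂ) zf =
        ((θ : N → ℂ) 1 / (Nat.card N : ℂ) * (c : ℂ)) * (m : ℂ) := by
      rw [omega_eq_sum, hsum, hm, Complex.conj_natCast, ht, hc, Nat.cast_mul]
      have : (t : ℂ) ≠ 0 := Nat.cast_ne_zero.2 ht0.ne'
      field_simp
    rw [hom]
    refine memI_mul_left hM ?_ ((memI_natCast hM).2 hdvd)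
    rw [div_eq_mul_inv]
    exact memR_mul hM (memR_mul hM (memR_of_isIntegral hM (isIntegral_irr θ 1))
      (memR_natCast_inv hM hpN)) (memR_natCast hM c)
  have huniq : ∀ ψ ψ' : IrrCharacter N',
      (∀ m : ℕ, classInner θC (ψ : N' → ℂ) = m → ¬ p ∣ m) →
      (∀ m : ℕ, classInner θC (ψ' : N' → ℂ) = m → ¬ p ∣ m) → ψ = ψ' := by
    have hnorm : ∀ s ∈ R, ∀ g ∈ N, s * g * s⁻¹ ∈ N := fun s _ g hg =>
      Subgroup.Normal.conj_mem ‹N.Normal› g hg s
    set φ := GlauberChar.actHom N R hnorm with hφ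
    have := Fintype.ofFinite (GlauberChar.fixedSub φ)
    let E : GlauberChar.fixedSub φ ≃* N' :=
      { toFun := fun c => ⟨⟨((c : N) : G), Subgroup.mem_centralizer_iff.2 fun s hs =>
          mul_inv_eq_iff_eq_mul.1 (congrArg Subtype.val (c.2 ⟨s, hs⟩))⟩, (c : N).2⟩
        invFun := fun n => ⟨⟨((n : H) : G), n.2⟩, fun s => Subtype.ext (by
          show (s : G) * ((n : H) : G) * (s : G)⁻¹ = _
          rw [Subgroup.mem_centralizer_iff.1 (n : H).2 s s.2, mul_inv_cancel_right])⟩
        left_inv := fun c => rfl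
        right_inv := fun n => rfl
        map_mul' := fun a b => rfl }
    have hfix : GlauberChar.IsFixed φ (θ : N → ℂ) :=
      (GlauberChar.isFixed_iff N R hnorm _).2 fun s _ g g' hgg' => by
        rw [show g' = ⟨s * g * s⁻¹, Subgroup.Normal.conj_mem ‹N.Normal› g g.2 s⟩ from
          Subtype.ext hgg']
        exact hinv s g
    let up : IrrCharacter N' → IrrCharacter (GlauberChar.fixedSub φ) := fun ψ =>
      ⟨fun c => (ψ : N' → ℂ) (E c), Char.IsIrrCharacter.comp_equiv ψ.2 E⟩
    have hmult : ∀ ψ : IrrCharacter N', classInner θC (ψ : N' → ℂ) =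
        (GlauberChar.mult φ (θ : N → ℂ) (up ψ : _ → ℂ) : ℂ) := by
      intro ψ
      rw [← GlauberChar.mult_spec φ (Char.IsIrrCharacter.isCharacter θ.2)
        (Char.IsIrrCharacter.isCharacter (up ψ).2), ← Char.classInner_comp_equiv E]
      rfl
    intro ψ ψ' h h'
    have h2 := GlauberChar.irr_unique φ hR hpN hfix (h _ (hmult ψ)) (h' _ (hmult ψ'))
    apply Subtype.ext
    funext n
    have h3 := congrFun (congrArg Subtype.val h2) (E.symm n)
    simpa [up] using h3
  -- every block below the Brauer image lies over the correspondent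
  have hover : ∀ g : Set (IrrCharacter H), IsPBlock M g →
      br R (blk M B) * cb M R g = cb M R g → ∀ ξ ∈ g, ∀ ψ : IrrCharacter N',
      classInner (fun n : N' => (ξ : H → ℂ) n) (ψ : N' → ℂ) ≠ 0 →
      ∀ m : ℕ, classInner θC (ψ : N' → ℂ) = m → ¬ p ∣ m := by
    intro g hg hle ξ hξ ψ hψ
    refine hnd ψ fun hI => ?_
    have h1 := (mul_bIdem_eq_iff hM hzc hzz hg hξ).1 hle
    have hcl := RealBlock.isClassFunction_extendByZero N' zf hzfinv
    rw [lam, hzf, lamG_red hM hcl hzfR, RealBlock.omega_extendByZero N' zf hzfinv ξ ψ hψ,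
      (res_eq_zero_iff hM (memR_of_memI hI)).2 hI] at h1
    have := res_nontrivial hM
    exact zero_ne_one h1
  obtain ⟨ξ, hξ⟩ := isPBlock_nonempty hM hf
  obtain ⟨ξ₀, hξ₀⟩ := isPBlock_nonempty hM hf₀
  obtain ⟨ψ, hψ⟩ := BlocksNormal.exists_constituent N' ξ
  obtain ⟨ψ₀, hψ₀⟩ := BlocksNormal.exists_constituent N' ξ₀
  obtain rfl : ψ = ψ₀ := huniq ψ ψ₀ (hover f hf hle ξ hξ ψ hψ) (hover f₀ hf₀ hle₀ ξ₀ hξ₀ ψ₀ hψ₀)
  have hψinv : Invariant N' ψ := by
    intro h n
    let F : H → ℂ := fun x => extendByZero N (θ : N → ℂ) (x : G)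
    have hFc : IsClassFunction H F := by
      intro x u
      show extendByZero N (θ : N → ℂ) ((u : G) * x * (u : G)⁻¹) = extendByZero N (θ : N → ℂ) x
      by_cases hx : (x : G) ∈ N
      · rw [Char.extendByZero_mem _ _ hx,
          Char.extendByZero_mem _ _ (Subgroup.Normal.conj_mem ‹N.Normal› _ hx _)]
        exact hinv (u : G) ⟨x, hx⟩
      · rw [Char.extendByZero_not_mem _ _ hx, Char.extendByZero_not_mem _ _ fun h' => hx ?_]
        simpa [mul_assoc] using Subgroup.Normal.conj_mem ‹N.Normal› _ h' (u : G)⁻¹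
    have hF : (fun n : N' => F n) = θC := funext fun n => by
      show extendByZero N (θ : N → ℂ) ((n : H) : G) = _
      rw [Char.extendByZero_mem _ _ (show ((n : H) : G) ∈ N from n.2)]
    have hψn := hover f hf hle ξ hξ ψ hψ
    have h1 : BlocksNormal.conjIrr N' h⁻¹ ψ = ψ := huniq _ _ (fun m hm => hψn m (by
      rw [← hm, ← hF]
      exact (CliffordChar.classInner_restrict_conjFun N' hFc h⁻¹ (ψ : N' → ℂ)).symm)) hψn
    have h2 := congrFun (congrArg Subtype.val h1) n
    change CliffordChar.conjFun N' h⁻¹ (ψ : N' → ℂ) n = _ at h2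
    rw [CliffordChar.conjFun_apply] at h2
    refine Eq.trans ?_ h2
    exact congrArg (ψ : N' → ℂ) (Subtype.ext (by simp))
  exact isPBlock_eq_of_mem hM hf hf₀
    (show ξ ∈ f from hξ) (by
      rw [isPBlock_eq_blockOf hM hf₀ hξ₀]
      exact sameBlock_of_over hM hpN' hN'L' hk' (S.2.map _) hQ''L hL'Q'' hreg' hψinv hψ₀ hψ)

end Cfsg.Agent.Fong
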