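import Cfsg.Agent.S0867
import Cfsg.Agent.Lib.Char.Integral

/-!
# Invariant extensions over a `p`-group quotient

`FongExt N L θ T`: `T` is a class function of `G` which on `L` is the canonical extension of the
invariant character `θ` of `N`, together with the orthogonality relation used to multiply the
idempotents attached to the cosets.  `exists_fongExt`: existence when `L / N` is a `p`-group and
`p ∤ |N|`.
-/

set_option autoImplicit false

namespace Cfsg.Agent.Fong

open Cfsg Cfsg.Agent.Char

variable {G : Type*} [Group G]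

/-- The properties of a canonical extension that are used. -/
structure FongExt (N L : Subgroup G) [Fintype N] (θ : IrrCharacter N) (T : G → ℂ) : Prop where
  conj : ∀ x g : G, T (g * x * g⁻¹) = T x
  eq : ∀ n : N, T n = (θ : N → ℂ) n
  integral : ∀ x : G, IsIntegral ℤ (T x)
  sum_mul : ∀ a ∈ L, ∀ b ∈ L, ∑ n : N, T (a * (n : G)⁻¹) * T ((n : G) * b) =
    (Nat.card N : ℂ) / (θ : N → ℂ) 1 * T (a * b)

section orth

open Matrix

variable {N : Type*} [Group N] [Fintype N] {d : ℕ} (ρ : Representation ℂ N (Fin d → ℂ))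

theorem trace_toMatrixAlgEquiv (f : Module.End ℂ (Fin d → ℂ)) :
    (LinearMap.toMatrixAlgEquiv' f).trace = LinearMap.trace ℂ (Fin d → ℂ) f := by
  rw [LinearMap.trace_eq_matrix_trace ℂ (Pi.basisFun ℂ (Fin d))]
  rfl

/-- Schur orthogonality in trace form. -/
theorem sum_trace_mul [ρ.IsIrreducible] (A B : Module.End ℂ (Fin d → ℂ)) :
    ∑ n : N, LinearMap.trace ℂ _ (A * ρ n⁻¹) * LinearMap.trace ℂ _ (ρ n * B) =
      (Nat.card N : ℂ) / d * LinearMap.trace ℂ _ (A * B) := by
  classical
  let φ := LinearMap.toMatrixAlgEquiv' (R := ℂ) (n := Fin d)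
  let K : ℂ := (Nat.card N : ℂ) / d
  have hschur : ∀ X : Matrix (Fin d) (Fin d) ℂ,
      ∑ n : N, φ (ρ n) * X * φ (ρ n⁻¹) = (K * X.trace) • 1 := by
    intro X
    obtain ⟨Y, rfl⟩ := φ.surjective X
    have hcomm : ∀ g : N, (∑ n : N, ρ n * Y * ρ n⁻¹) * ρ g = ρ g * ∑ n : N, ρ n * Y * ρ n⁻¹ := by
      intro g
      rw [Finset.sum_mul, Finset.mul_sum]
      refine Fintype.sum_equiv (Equiv.mulLeft g⁻¹) _ _ fun n => ?_
      rw [Equiv.coe_mulLeft, ← mul_assoc, ← mul_assoc, ← map_mul, mul_inv_cancel_left,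
        _root_.mul_inv_rev, inv_inv, map_mul, ← mul_assoc]
    have h := CharApp.eq_trace_div_smul ρ _ hcomm
    have htr : LinearMap.trace ℂ (Fin d → ℂ) (∑ n : N, ρ n * Y * ρ n⁻¹) =
        (Nat.card N : ℂ) * LinearMap.trace ℂ (Fin d → ℂ) Y := by
      rw [map_sum, Finset.sum_congr rfl fun n _ => show LinearMap.trace ℂ (Fin d → ℂ)
        (ρ n * Y * ρ n⁻¹) = LinearMap.trace ℂ (Fin d → ℂ) Y by
          rw [LinearMap.trace_mul_comm, ← mul_assoc, ← map_mul, inv_mul_cancel, map_one, one_mul],
        Finset.sum_const, Finset.card_univ, nsmul_eq_mul, Nat.card_eq_fintype_card]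
    rw [htr, Module.finrank_fin_fun] at h
    have h' := congrArg φ h
    rw [map_sum, map_smul, map_one] at h'
    rw [trace_toMatrixAlgEquiv]
    simp only [map_mul] at h'
    rw [h']
    congr 1
    simp only [K]
    ring
  have hentry : ∀ i j k l : Fin d, ∑ n : N, φ (ρ n) k l * φ (ρ n⁻¹) j i =
      if l = j ∧ k = i then K else 0 := by
    intro i j k l
    have h := congrFun (congrFun (hschur (Matrix.single l j 1)) k) i
    simp only [Matrix.sum_apply, Matrix.mul_apply, Matrix.smul_apply, Matrix.one_apply,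
      smul_eq_mul] at h
    rw [Finset.sum_congr rfl fun n _ => ?_] at h
    · rw [h]
      by_cases hlj : l = j
      · subst hlj
        rw [Matrix.trace_single_eq_same, mul_one]
        split_ifs with h1 h2 h2 <;> simp_all
      · rw [Matrix.trace_single_eq_of_ne _ _ _ hlj]
        simp [hlj]
    · rw [Finset.sum_eq_single j]
      · rw [Finset.sum_eq_single l]
        · simp
        · intro x _ hx
          simp [Ne.symm hx]
        · simp
      · intro x _ hx
        rw [Finset.sum_eq_zero fun y _ => ?_, zero_mul]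
        simp [Ne.symm hx]
      · simp
  have hL : ∀ n : N, LinearMap.trace ℂ _ (A * ρ n⁻¹) =
      ∑ i, ∑ j, φ A i j * φ (ρ n⁻¹) j i := by
    intro n
    rw [← trace_toMatrixAlgEquiv, map_mul]
    simp [φ, Matrix.trace, Matrix.mul_apply]
  have hR : ∀ n : N, LinearMap.trace ℂ _ (ρ n * B) =
      ∑ k, ∑ l, φ (ρ n) k l * φ B l k := by
    intro n
    rw [← trace_toMatrixAlgEquiv, map_mul]
    simp [φ, Matrix.trace, Matrix.mul_apply]
  simp only [hL, hR]
  calc ∑ n : N, (∑ i, ∑ j, φ A i j * φ (ρ n⁻¹) j i) * (∑ k, ∑ l, φ (ρ n) k l * φ B l k)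
      = ∑ i, ∑ j, ∑ k, ∑ l, φ A i j * φ B l k * ∑ n : N, φ (ρ n) k l * φ (ρ n⁻¹) j i := by
        simp only [Finset.sum_mul]
        simp only [Finset.mul_sum]
        rw [Finset.sum_comm]
        refine Finset.sum_congr rfl fun i _ => ?_
        rw [Finset.sum_comm]
        refine Finset.sum_congr rfl fun j _ => ?_
        rw [Finset.sum_comm]
        refine Finset.sum_congr rfl fun k _ => ?_
        rw [Finset.sum_comm]
        exact Finset.sum_congr rfl fun l _ => Finset.sum_congr rfl fun n _ => by ring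
    _ = ∑ i, ∑ j, φ A i j * φ B j i * K := by
        simp only [hentry]
        refine Finset.sum_congr rfl fun i _ => Finset.sum_congr rfl fun j _ => ?_
        rw [Finset.sum_eq_single i]
        · simp
        · intro x _ hx
          simp [hx]
        · simp
    _ = K * (φ (A * B)).trace := by
        simp only [map_mul, Matrix.trace, Matrix.diag_apply, Matrix.mul_apply, Finset.mul_sum]
        exact Finset.sum_congr rfl fun i _ => Finset.sum_congr rfl fun j _ => by ring
    _ = _ := by rw [trace_toMatrixAlgEquiv]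

end orth

variable [Finite G]

/-- An invariant character of a normal `p'`-subgroup has a canonical extension. -/
theorem exists_fongExt {p : ℕ} [hp : Fact p.Prime] (N L : Subgroup G) [N.Normal] [L.Normal]
    [Fintype N] (hNL : N ≤ L) (hpN : ¬ p ∣ Nat.card N) {k : ℕ} (hLN : N.relIndex L = p ^ k)
    (θ : IrrCharacter N)
    (hinv : ∀ (g : G) (n : N),
      (θ : N → ℂ) ⟨g * n * g⁻¹, Subgroup.Normal.conj_mem ‹N.Normal› n n.2 g⟩ = (θ : N → ℂ) n) :
    ∃ T : G → ℂ, FongExt N L θ T := by
  classical
  have := Fintype.ofFinite L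
  let N' := N.subgroupOf L
  have := Fintype.ofFinite N'
  let e : N' ≃* N := Subgroup.subgroupOfEquivOfLe hNL
  let θ' : N' → ℂ := fun x => (θ : N → ℂ) (e x)
  have hθ' : IsIrrCharacter N' θ' := IsIrrCharacter.comp_equiv θ.2 e
  have hcard : Nat.card N' = Nat.card N := Nat.card_congr e.toEquiv
  have hcop : ∀ m : ℕ, m ∣ Nat.card N → Nat.Coprime (p ^ k) m := fun m hm =>
    (Nat.Coprime.pow_left k ((hp.out.coprime_iff_not_dvd).mpr fun h => hpN (h.trans hm)))
  obtain ⟨d, -, hd, hdvd⟩ := IsIrrCharacter.degree_dvd_card hθ'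
  have hdet : detOrder θ' ∣ Nat.card N := by
    obtain ⟨l, hl⟩ := CharExtend.exists_detChar_eq (IsIrrCharacter.isCharacter hθ')
    rw [detOrder, hl, CharExtend.orderOf_valHom, ← hcard]
    refine orderOf_dvd_of_pow_eq_one (MonoidHom.ext fun x => ?_)
    rw [MonoidHom.pow_apply, MonoidHom.one_apply, ← map_pow, pow_card_eq_one', map_one]
  have hidx : Nat.Coprime N'.index (detOrder θ' * d) := by
    rw [show N'.index = p ^ k from hLN]
    exact (hcop _ hdet).mul_right (hcop _ (hcard ▸ hdvd))
  have hinvL : ∀ (g : L) (n : N'),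
      θ' ⟨g * n * g⁻¹, Subgroup.Normal.conj_mem (inferInstance : N'.Normal) n n.2 g⟩ = θ' n := by
    intro g n
    exact hinv (g : G) (e n)
  obtain ⟨χ, ⟨hχ, hres, hχdet⟩, huniq⟩ :=
    S0867.result N' θ' hθ' hinvL d hd hidx
  have hχc := IsIrrCharacter.isCharacter hχ
  -- invariance
  have hG : ∀ g : G, (fun x : L => χ (MulAut.conjNormal g x)) = χ := by
    intro g
    refine huniq _ (IsIrrCharacter.comp_equiv hχ (MulAut.conjNormal g : MulAut L)) (fun n => ?_) ?_
    · have hm : MulAut.conjNormal g (n : L) ∈ N' := by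
        rw [Subgroup.mem_subgroupOf, MulAut.conjNormal_apply]
        exact Subgroup.Normal.conj_mem ‹N.Normal› _ n.2 g
      have h1 := hres ⟨_, hm⟩
      rw [h1]
      show (θ : N → ℂ) (e ⟨_, hm⟩) = (θ : N → ℂ) (e n)
      rw [← hinv g (e n)]
      exact congrArg (θ : N → ℂ) (Subtype.ext (MulAut.conjNormal_apply g (n : L)))
    · refine Nat.Coprime.coprime_dvd_right ?_
        (hidx.coprime_dvd_right (hχdet.dvd.mul_right d))
      obtain ⟨m, ρ, -, rfl⟩ := hχ
      obtain ⟨l, hl⟩ := CharExtend.exists_detChar_eq (isCharacter_character ρ)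
      let c : L →* L := (MulAut.conjNormal g : MulAut L).toMonoidHom
      let σ : Representation ℂ L (Fin m → ℂ) := ρ.comp c
      have hσ : (fun x : L => ρ.character (MulAut.conjNormal g x)) = σ.character := rfl
      have hσd : detChar σ.character = CharExtend.valHom L (l.comp c) := by
        funext x
        rw [CharExtend.detChar_character, CharExtend.valHom_apply]
        have h := congrFun hl (c x)
        rw [CharExtend.detChar_character, CharExtend.valHom_apply] at h
        exact h
      rw [hσ, detOrder, detOrder, hσd, hl, CharExtend.orderOf_valHom, CharExtend.orderOf_valHom]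
      refine orderOf_dvd_of_pow_eq_one (MonoidHom.ext fun x => ?_)
      rw [MonoidHom.pow_apply, MonoidHom.comp_apply, MonoidHom.one_apply, ← MonoidHom.pow_apply,
        pow_orderOf_eq_one, MonoidHom.one_apply]
  refine ⟨extendByZero L χ, ⟨fun x g => ?_, fun n => ?_, fun x => ?_, fun a ha b hb => ?_⟩⟩
  · by_cases hx : x ∈ L
    · rw [Char.extendByZero_mem _ _ hx,
        Char.extendByZero_mem _ _ (Subgroup.Normal.conj_mem ‹L.Normal› x hx g)]
      have h := congrFun (hG g) ⟨x, hx⟩
      rw [← h]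
      exact congrArg χ (Subtype.ext (MulAut.conjNormal_apply g (⟨x, hx⟩ : L)).symm)
    · rw [Char.extendByZero_not_mem _ _ hx, Char.extendByZero_not_mem _ _ fun h => hx ?_]
      simpa [mul_assoc] using Subgroup.Normal.conj_mem ‹L.Normal› _ h g⁻¹
  · rw [Char.extendByZero_mem _ _ (hNL n.2)]
    exact hres ⟨⟨n, hNL n.2⟩, n.2⟩
  · by_cases hx : x ∈ L
    · rw [Char.extendByZero_mem _ _ hx]
      exact IsCharacter.isIntegral hχc _
    · rw [Char.extendByZero_not_mem _ _ hx]
      exact isIntegral_zero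
  · obtain ⟨m, ρ, -, hρ⟩ := hχ
    obtain ⟨t, τ, hτi, hτ⟩ := θ.2
    let i : N →* L := Subgroup.inclusion hNL
    let ρN : Representation ℂ N (Fin m → ℂ) := ρ.comp i
    have hchar : τ.character = ρN.character := by
      funext n
      rw [hτ]
      have h1 := hres ⟨⟨n, hNL n.2⟩, n.2⟩
      rw [← hρ] at h1
      exact h1.symm
    have := hτi
    obtain ⟨φ⟩ := Char.equiv_of_character_eq τ ρN hchar
    have : ρN.IsIrreducible := isIrreducible_congr φ hτi
    have hm : (θ : N → ℂ) 1 = m := by
      rw [← hτ, hchar, Representation.char_one, Module.finrank_fin_fun]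
    have h := sum_trace_mul ρN (ρ ⟨a, ha⟩) (ρ ⟨b, hb⟩)
    rw [hm, Char.extendByZero_mem _ _ (L.mul_mem ha hb), ← hρ]
    convert h using 1
    · refine Finset.sum_congr rfl fun n _ => ?_
      rw [Char.extendByZero_mem _ _ (L.mul_mem ha (inv_mem (hNL n.2))),
        Char.extendByZero_mem _ _ (L.mul_mem (hNL n.2) hb)]
      show LinearMap.trace ℂ _ _ * LinearMap.trace ℂ _ _ = _
      congr 2
      · show ρ _ = ρ _ * ρ _
        rw [← map_mul]; rfl
      · show ρ _ = ρ _ * ρ _
        rw [← map_mul]; rfl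
    · show _ = _
      rw [← map_mul]
      rfl

end Cfsg.Agent.Fong
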