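import Cfsg.Agent.Lib.Fong.Extension
import Cfsg.Agent.Lib.Blocks.Nilpotent
import Cfsg.Agent.Lib.BrauerPairs.BlockIdem

/-!
# The Brauer image below an invariant character of a normal `p'`-subgroup

With `T` a canonical extension (`FongExt`), `cu a` is the coefficient function of the element of
`k[N]` acting on the simple module like `a ∈ L`, and `twist a = a · cu a⁻¹` commutes with `k[N]`.
`br_ne_zero`: a non-zero central idempotent below the idempotent of `θ` has non-zero Brauer image
at every `p`-subgroup `Q` with `L ≤ N Q`.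
-/

set_option autoImplicit false

namespace Cfsg.Agent.Fong

open Cfsg Cfsg.Agent.Blocks Cfsg.Agent.BrauerPairs

variable {G : Type*} [Group G] [Finite G] {p : ℕ} {M : Ideal AlgInt} {N L : Subgroup G}
  [Fintype N] {θ : IrrCharacter N} {T : G → ℂ}

open scoped Classical in
/-- The coefficient function of the element of `k[N]` attached to `a`. -/
noncomputable def cuFun (θ : IrrCharacter N) (T : G → ℂ) (a : G) : G → ℂ :=
  fun m => if m ∈ N then (θ : N → ℂ) 1 / (Nat.card N : ℂ) * T (a * m⁻¹) else 0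

/-- Its reduction. -/
noncomputable def cu (M : Ideal AlgInt) (θ : IrrCharacter N) (T : G → ℂ) (a : G) :
    MonoidAlgebra (Res M) G :=
  red M (cuFun θ T a)

/-- The element `a · cu a⁻¹`. -/
noncomputable def twist (M : Ideal AlgInt) (θ : IrrCharacter N) (T : G → ℂ) (a : G) :
    MonoidAlgebra (Res M) G :=
  MonoidAlgebra.single a 1 * cu M θ T a⁻¹

theorem suppIn_cu (hM : IsPModular p M) (a : G) : SuppIn N (cu M θ T a) := fun x hx => by
  rw [cu, coeff_red, cuFun, if_neg hx, res_zero hM]

theorem memR_cuFun (hM : IsPModular p M) (hpN : ¬ p ∣ Nat.card N) (hT : FongExt N L θ T) (a x : G) :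
    MemLocalRing M (cuFun θ T a x) := by
  unfold cuFun
  split_ifs
  · rw [div_eq_mul_inv]
    exact memR_mul hM (memR_mul hM (memR_of_isIntegral hM (isIntegral_irr θ 1))
      (memR_natCast_inv hM hpN)) (memR_of_isIntegral hM (hT.integral _))
  · exact memR_zero hM

theorem cu_mul (hM : IsPModular p M) (hpN : ¬ p ∣ Nat.card N) (hNL : N ≤ L) (hT : FongExt N L θ T)
    {a b : G} (ha : a ∈ L) (hb : b ∈ L) : cu M θ T a * cu M θ T b = cu M θ T (a * b) := by
  classical
  have := Fintype.ofFinite G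
  rw [cu, cu, cu, ← red_conv hM (memR_cuFun hM hpN hT a) (memR_cuFun hM hpN hT b)]
  congr 1
  funext m
  rw [conv_eq_sum]
  by_cases hm : m ∈ N
  swap
  · rw [cuFun, if_neg hm]
    refine Finset.sum_eq_zero fun x _ => ?_
    by_cases hx : x ∈ N
    · have h' : x⁻¹ * m ∉ N := fun h => hm (by simpa using N.mul_mem hx h)
      rw [cuFun, cuFun, if_neg h', mul_zero]
    · rw [cuFun, if_neg hx, zero_mul]
  set c : ℂ := (θ : N → ℂ) 1 / (Nat.card N : ℂ) with hc
  have hbm : b * m⁻¹ ∈ L := L.mul_mem hb (inv_mem (hNL hm))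
  have hsum := hT.sum_mul a ha (b * m⁻¹) hbm
  have h1 : ∑ x, cuFun θ T a x * cuFun θ T b (x⁻¹ * m) =
      c * c * ∑ n : N, T (a * (n : G)⁻¹) * T ((n : G) * (b * m⁻¹)) := by
    rw [Finset.mul_sum, ← Finset.sum_filter_add_sum_filter_not Finset.univ (fun x => x ∈ N),
      add_eq_left.mpr (Finset.sum_eq_zero fun x hx => by
        rw [cuFun, if_neg (Finset.mem_filter.1 hx).2, zero_mul]),
      Finset.sum_subtype (p := fun x => x ∈ N) _ (fun x => by simp)]
    refine Finset.sum_congr rfl fun x _ => ?_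
    have hx : (x : G) ∈ N := x.2
    have hmem : (x : G)⁻¹ * m ∈ N := N.mul_mem (inv_mem hx) hm
    rw [cuFun, cuFun, if_pos hx, if_pos hmem]
    show c * T (a * (x : G)⁻¹) * (c * T (b * ((x : G)⁻¹ * m)⁻¹)) =
      c * c * (T (a * (x : G)⁻¹) * T ((x : G) * (b * m⁻¹)))
    rw [show b * ((x : G)⁻¹ * m)⁻¹ = (x : G)⁻¹ * ((x : G) * (b * m⁻¹)) * (x : G)⁻¹⁻¹ by group,
      hT.conj]
    ring
  rw [h1, hsum, cuFun, if_pos hm, ← hc]
  have hN0 : (Nat.card N : ℂ) ≠ 0 := card_ne_zero_C
  have hθ0 := irr_one_ne_zero θ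
  rw [show a * (b * m⁻¹) = a * b * m⁻¹ by group, hc]
  field_simp

theorem cj_cu [hN : N.Normal] (hT : FongExt N L θ T) (g a : G) :
    cj g (cu M θ T a) = cu M θ T (g * a * g⁻¹) := by
  classical
  ext x
  rw [coeff_cj, cu, cu, coeff_red, coeff_red]
  congr 1
  simp only [cuFun]
  have hiff : g⁻¹ * x * g ∈ N ↔ x ∈ N :=
    ⟨fun h => by simpa [mul_assoc] using hN.conj_mem _ h g,
      fun h => by simpa [mul_assoc] using hN.conj_mem _ h g⁻¹⟩
  by_cases hx : x ∈ N
  · rw [if_pos hx, if_pos (hiff.2 hx)]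
    congr 1
    rw [show g * a * g⁻¹ * x⁻¹ = g * (a * (g⁻¹ * x * g)⁻¹) * g⁻¹ by group, hT.conj]
  · rw [if_neg hx, if_neg fun h => hx (hiff.1 h)]

theorem single_mul_cu [N.Normal] (hT : FongExt N L θ T) (g a : G) :
    MonoidAlgebra.single g 1 * cu M θ T a =
      cu M θ T (g * a * g⁻¹) * MonoidAlgebra.single g 1 := by
  classical
  have := Fintype.ofFinite G
  rw [← cj_cu hT]
  ext x
  rw [MonoidAlgebra.coeff_single_mul_apply, MonoidAlgebra.coeff_mul_single_apply, coeff_cj,
    one_mul, mul_one]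
  congr 1
  group

theorem twist_mul [N.Normal] [hL : L.Normal] (hM : IsPModular p M) (hpN : ¬ p ∣ Nat.card N)
    (hNL : N ≤ L) (hT : FongExt N L θ T) {a b : G} (ha : a ∈ L) (hb : b ∈ L) :
    twist M θ T a * twist M θ T b = twist M θ T (a * b) := by
  unfold twist
  have e : cu M θ T a⁻¹ * MonoidAlgebra.single b 1 =
      MonoidAlgebra.single b 1 * cu M θ T (b⁻¹ * a⁻¹ * b) := by
    rw [single_mul_cu hT, show b * (b⁻¹ * a⁻¹ * b) * b⁻¹ = a⁻¹ by group]
  calc MonoidAlgebra.single a 1 * cu M θ T a⁻¹ * (MonoidAlgebra.single b 1 * cu M θ T b⁻¹)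
      = MonoidAlgebra.single a 1 * (cu M θ T a⁻¹ * MonoidAlgebra.single b 1) * cu M θ T b⁻¹ := by
        noncomm_ring
    _ = MonoidAlgebra.single a 1 * MonoidAlgebra.single b 1 *
          (cu M θ T (b⁻¹ * a⁻¹ * b) * cu M θ T b⁻¹) := by
        rw [e]; noncomm_ring
    _ = MonoidAlgebra.single (a * b) 1 * cu M θ T ((a * b)⁻¹) := by
        rw [MonoidAlgebra.single_mul_single, mul_one, cu_mul hM hpN hNL hT
          (L.mul_mem (L.mul_mem (inv_mem hb) (inv_mem ha)) hb) (inv_mem hb)]
        congr 2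
        group

theorem twist_mul_single [N.Normal] (hT : FongExt N L θ T) (a g : G) :
    twist M θ T a * MonoidAlgebra.single g 1 =
      MonoidAlgebra.single g 1 * twist M θ T (g⁻¹ * a * g) := by
  unfold twist
  rw [mul_assoc, show cu M θ T a⁻¹ * MonoidAlgebra.single g 1 =
      MonoidAlgebra.single g 1 * cu M θ T (g⁻¹ * a⁻¹ * g) by
    rw [single_mul_cu hT, show g * (g⁻¹ * a⁻¹ * g) * g⁻¹ = a⁻¹ by group],
    ← mul_assoc, ← mul_assoc, MonoidAlgebra.single_mul_single, MonoidAlgebra.single_mul_single]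
  congr 2
  · group
  · group

theorem twist_of_mem [N.Normal] (hT : FongExt N L θ T) {n : G} (hn : n ∈ N) :
    twist M θ T n = cu M θ T 1 := by
  classical
  have := Fintype.ofFinite G
  ext x
  rw [twist, MonoidAlgebra.coeff_single_mul_apply, one_mul, cu, cu, coeff_red, coeff_red]
  congr 1
  simp only [cuFun]
  have hiff : n⁻¹ * x ∈ N ↔ x ∈ N := Subgroup.mul_mem_cancel_left N (inv_mem hn)
  by_cases hx : x ∈ N
  · rw [if_pos hx, if_pos (hiff.2 hx)]
    congr 1
    rw [show n⁻¹ * (n⁻¹ * x)⁻¹ = n⁻¹ * (1 * x⁻¹) * n⁻¹⁻¹ by group, hT.conj]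
  · rw [if_neg hx, if_neg fun h => hx (hiff.1 h)]

theorem fixed_cu_one [N.Normal] (hT : FongExt N L θ T) : Fixed ⊤ (cu M θ T 1) := fun g _ => by
  rw [cj_cu hT, mul_one, mul_inv_cancel]

theorem cu_one_mul_self (hM : IsPModular p M) (hpN : ¬ p ∣ Nat.card N) (hNL : N ≤ L)
    (hT : FongExt N L θ T) : cu M θ T 1 * cu M θ T 1 = cu M θ T 1 := by
  rw [cu_mul hM hpN hNL hT L.one_mem L.one_mem, mul_one]

theorem twist_mul_one [N.Normal] (hM : IsPModular p M) (hpN : ¬ p ∣ Nat.card N) (hNL : N ≤ L)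
    (hT : FongExt N L θ T) {a : G} (ha : a ∈ L) :
    twist M θ T a * cu M θ T 1 = twist M θ T a := by
  rw [twist, mul_assoc, cu_mul hM hpN hNL hT (inv_mem ha) L.one_mem, mul_one]

/-- The key step of Fong's theorem. -/
theorem br_ne_zero [Fact p.Prime] [N.Normal] [L.Normal] (hM : IsPModular p M)
    (hpN : ¬ p ∣ Nat.card N) (hNL : N ≤ L) (hT : FongExt N L θ T) {Q : Subgroup G}
    (hQ : IsPGroup p Q) (hQL : Q ≤ L) (hLQ : L ≤ N ⊔ Q) {f : MonoidAlgebra (Res M) G}
    (hf : Fixed ⊤ f) (hff : f * f = f) (hfe : f * cu M θ T 1 = f) (hf0 : f ≠ 0) :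
    br Q f ≠ 0 := by
  classical
  intro hbr
  have := Fintype.ofFinite G
  have := res_charP hM
  have := res_isDomain hM
  set e := cu M θ T 1 with he
  have hcf : ∀ w, f * w = w * f := fun w => hf.commute SuppIn.top
  have hce : ∀ w, e * w = w * e := fun w => (fixed_cu_one hT).commute SuppIn.top
  have hee : e * e = e := cu_one_mul_self hM hpN hNL hT
  -- the action of `Q`
  let v : Q → MonoidAlgebra (Res M) G := fun q => twist M θ T (q : G) + (1 - e)
  have hve : ∀ q : Q, twist M θ T (q : G) * e = twist M θ T (q : G) := fun q =>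
    twist_mul_one hM hpN hNL hT (hQL q.2)
  have hv1 : v 1 = 1 := by
    show twist M θ T 1 + (1 - e) = 1
    rw [twist_of_mem hT N.one_mem, ← he]
    noncomm_ring
  have hvmul : ∀ a b : Q, v a * v b = v (a * b) := by
    intro a b
    have h1 : twist M θ T (a : G) * (1 - e) = 0 := by rw [mul_sub, mul_one, hve, sub_self]
    have h2 : (1 - e) * twist M θ T (b : G) = 0 := by
      rw [sub_mul, one_mul, hce, hve, sub_self]
    have h3 : (1 - e) * (1 - e) = 1 - e := by
      rw [sub_mul, one_mul, mul_sub, mul_one, hee, sub_self, sub_zero]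
    show (twist M θ T (a : G) + (1 - e)) * (twist M θ T (b : G) + (1 - e)) =
      twist M θ T ((a * b : Q) : G) + (1 - e)
    rw [add_mul, mul_add, mul_add, h1, h2, h3, add_zero, zero_add,
      twist_mul hM hpN hNL hT (hQL a.2) (hQL b.2), Subgroup.coe_mul]
  letI : DistribMulAction Q (MonoidAlgebra (Res M) G) :=
    { smul := fun q w => v q * w
      one_smul := fun w => by show v 1 * w = w; rw [hv1, one_mul]
      mul_smul := fun a b w => by show v (a * b) * w = v a * (v b * w); rw [← mul_assoc, hvmul]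
      smul_zero := fun _ => mul_zero _
      smul_add := fun _ _ _ => mul_add _ _ _ }
  letI : Module (ZMod p) (MonoidAlgebra (Res M) G) :=
    AddCommGroup.zmodModule fun w => by
      ext x
      rw [MonoidAlgebra.coeff_smul, Finsupp.smul_apply, nsmul_eq_mul, CharP.cast_eq_zero, zero_mul]
      rfl
  obtain ⟨y, hyW, hy0, hyfix⟩ := exists_fixed_ne_zero (p := p)
    (V := MonoidAlgebra (Res M) G) hQ
    { carrier := {w | f * w = w}
      zero_mem' := mul_zero f
      add_mem' := fun {a b} ha hb => by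
        show f * (a + b) = a + b
        rw [mul_add, ha, hb]
      neg_mem' := fun {a} ha => by
        show f * -a = -a
        rw [mul_neg, ha] }
    (fun q w hw => by
      show f * (v q * w) = v q * w
      rw [← mul_assoc, hcf, mul_assoc, hw])
    (fun h => hf0 (by
      have hm : f ∈ (⊥ : AddSubgroup (MonoidAlgebra (Res M) G)) := h ▸ hff
      exact AddSubgroup.mem_bot.1 hm))
  have hfy : f * y = y := hyW
  have hey : e * y = y := by
    conv_lhs => rw [← hfy, ← mul_assoc, ← hcf, hfe, hfy]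
  -- all twists fix `y`, hence everything in `k[G] y`
  have hq : ∀ q : Q, twist M θ T (q : G) * y = y := by
    intro q
    have h : v q * y = y := hyfix q
    change (twist M θ T (q : G) + (1 - e)) * y = y at h
    rwa [add_mul, sub_mul, one_mul, hey, sub_self, add_zero] at h
  let S : Submonoid G :=
    { carrier := {a | a ∈ L ∧ twist M θ T a * y = y}
      one_mem' := ⟨L.one_mem, by rw [twist_of_mem hT N.one_mem, ← he, hey]⟩
      mul_mem' := fun {a b} ha hb => ⟨L.mul_mem ha.1 hb.1, by
        rw [← twist_mul hM hpN hNL hT ha.1 hb.1, mul_assoc, hb.2, ha.2]⟩ }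
  let S' : Subgroup G :=
    { S with
      inv_mem' := fun {a} ha => ⟨inv_mem ha.1, by
        conv_lhs => rw [← ha.2, ← mul_assoc, twist_mul hM hpN hNL hT (inv_mem ha.1) ha.1,
          inv_mul_cancel, twist_of_mem hT N.one_mem, ← he, hey]⟩ }
  have hfixL : ∀ a ∈ L, twist M θ T a * y = y := by
    intro a ha
    have hle : N ⊔ Q ≤ S' := sup_le
      (fun n hn => ⟨hNL hn, by rw [twist_of_mem hT hn, ← he, hey]⟩)
      (fun q hq' => ⟨hQL hq', hq ⟨q, hq'⟩⟩)
    exact (hle (hLQ ha)).2
  have hsc : ∀ (r : Res M) (w : MonoidAlgebra (Res M) G),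
      MonoidAlgebra.single (1 : G) r * w = w * MonoidAlgebra.single 1 r := fun r w => by
    ext z
    rw [MonoidAlgebra.coeff_single_mul_apply, MonoidAlgebra.coeff_mul_single_apply, inv_one,
      one_mul, mul_one, mul_comm]
  have hfixW : ∀ w, ∀ a ∈ L, twist M θ T a * (w * y) = w * y := by
    intro w
    induction w using MonoidAlgebra.induction_linear with
    | zero => intro a _; rw [zero_mul, mul_zero]
    | add w₁ w₂ h₁ h₂ => intro a ha; rw [add_mul, mul_add, h₁ a ha, h₂ a ha]
    | single g r =>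
      intro a ha
      have hr : (MonoidAlgebra.single g r : MonoidAlgebra (Res M) G) =
          MonoidAlgebra.single 1 r * MonoidAlgebra.single g 1 := by
        rw [MonoidAlgebra.single_mul_single, one_mul, mul_one]
      have hcomm : twist M θ T a * MonoidAlgebra.single (1 : G) r =
          MonoidAlgebra.single 1 r * twist M θ T a := (hsc r _).symm
      rw [hr, mul_assoc, ← mul_assoc (twist M θ T a), hcomm, mul_assoc,
        ← mul_assoc (twist M θ T a), twist_mul_single hT, mul_assoc (MonoidAlgebra.single g 1),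
        hfixL _ (by simpa using Subgroup.Normal.conj_mem ‹L.Normal› a ha g⁻¹)]
  -- the averaged basis elements
  let A : G → MonoidAlgebra (Res M) G := fun x =>
    ∑ n : N, MonoidAlgebra.single ((n : G) * x * (n : G)⁻¹) 1
  have hAfix : ∀ x, Fixed N (A x) := by
    intro x u hu
    simp only [A, map_sum, cj_single]
    refine Fintype.sum_equiv (Equiv.mulLeft ⟨u, hu⟩) _ _ fun n => ?_
    rw [Equiv.coe_mulLeft, Subgroup.coe_mul]
    congr 1
    group
  let h : G → MonoidAlgebra (Res M) G := fun x =>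
    MonoidAlgebra.single (1 : G) (f.coeff x) * (A x * y)
  have hh : ∀ q ∈ Q, ∀ x : G, h (q * x * q⁻¹) = h x := by
    intro q hqQ x
    have hqL := hQL hqQ
    show MonoidAlgebra.single (1 : G) (f.coeff (q * x * q⁻¹)) * (A (q * x * q⁻¹) * y) =
      MonoidAlgebra.single (1 : G) (f.coeff x) * (A x * y)
    rw [coeff_conj_of_fixed hf (Subgroup.mem_top q)]
    congr 1
    have hA : A (q * x * q⁻¹) =
        MonoidAlgebra.single q 1 * A x * MonoidAlgebra.single q⁻¹ 1 := by
      simp only [A, Finset.mul_sum, Finset.sum_mul, MonoidAlgebra.single_mul_single, mul_one]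
      refine Fintype.sum_equiv (MulAut.conjNormal q⁻¹ : MulAut N).toEquiv _ _ fun n => ?_
      show _ = MonoidAlgebra.single (q * ((MulAut.conjNormal q⁻¹ n : N) * x *
        ((MulAut.conjNormal q⁻¹ n : N) : G)⁻¹) * q⁻¹) 1
      rw [MulAut.conjNormal_apply]
      congr 1
      group
    have hqy : MonoidAlgebra.single q⁻¹ 1 * y = cu M θ T q⁻¹ * y := by
      have h1 := hfixL q hqL
      rw [twist] at h1
      conv_lhs => rw [← h1, mul_assoc, ← mul_assoc, MonoidAlgebra.single_mul_single, mul_one,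
        inv_mul_cancel, ← MonoidAlgebra.one_def, one_mul]
    rw [hA, mul_assoc, hqy, mul_assoc, ← mul_assoc (A x),
      (hAfix x).commute (suppIn_cu hM q⁻¹), mul_assoc (cu M θ T q⁻¹), ← mul_assoc,
      show MonoidAlgebra.single q 1 * cu M θ T q⁻¹ = twist M θ T q from rfl, hfixW _ q hqL]
  have hzero : ∑ x, h x = 0 := by
    rw [conj_sum_eq_sum_centralizer_add (P := Q),
      AddSubmonoid.mem_bot.1 (conj_sum_not_centralizer_mem hQ h hh ⊥ fun x => by
        rw [AddSubmonoid.mem_bot]
        ext z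
        rw [MonoidAlgebra.coeff_smul, Finsupp.smul_apply, nsmul_eq_mul, CharP.cast_eq_zero, zero_mul]
        rfl),
      add_zero]
    refine Finset.sum_eq_zero fun x hx => ?_
    have h1 : (br Q f).coeff x = 0 := by rw [hbr]; rfl
    rw [coeff_br, if_pos (Finset.mem_filter.1 hx).2] at h1
    show MonoidAlgebra.single (1 : G) (f.coeff x) * _ = 0
    rw [h1, MonoidAlgebra.single_zero, zero_mul]
  have hsum : ∑ x, h x = Nat.card N • y := by
    have hf' : f = ∑ x, MonoidAlgebra.single x (f.coeff x) := by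
      ext z
      rw [MonoidAlgebra.coeff_sum, Finsupp.finsetSum_apply, Finset.sum_eq_single z]
      · simp
      · intro x _ hx
        simp [hx]
      · simp
    have h2 : ∑ x, MonoidAlgebra.single (1 : G) (f.coeff x) * A x = ∑ n : N, cj (n : G) f := by
      conv_rhs => rw [hf']
      simp only [map_sum, cj_single]
      rw [Finset.sum_comm]
      refine Finset.sum_congr rfl fun x _ => ?_
      simp only [A, Finset.mul_sum, MonoidAlgebra.single_mul_single, one_mul, mul_one]
    have h3 : ∑ n : N, cj (n : G) f = Nat.card N • f := by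
      rw [Finset.sum_congr rfl fun (n : N) _ => hf (n : G) (Subgroup.mem_top _), Finset.sum_const,
        Finset.card_univ, Nat.card_eq_fintype_card]
    calc ∑ x, h x = (∑ x, MonoidAlgebra.single (1 : G) (f.coeff x) * A x) * y := by
          rw [Finset.sum_mul]
          exact Finset.sum_congr rfl fun x _ => (mul_assoc _ _ _).symm
      _ = _ := by rw [h2, h3, smul_mul_assoc, hfy]
  have hN : (Nat.card N : Res M) ≠ 0 := fun h0 => hpN ((CharP.cast_eq_zero_iff (Res M) p _).1 h0)
  apply hy0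
  rw [hzero] at hsum
  ext z
  have h1 := congrArg (fun w : MonoidAlgebra (Res M) G => w.coeff z) hsum
  simp only [MonoidAlgebra.coeff_smul, Finsupp.smul_apply, MonoidAlgebra.coeff_zero,
    Finsupp.zero_apply] at h1
  rw [nsmul_eq_mul] at h1
  exact (mul_eq_zero.1 h1.symm).resolve_left hN

end Cfsg.Agent.Fong
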