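import Cfsg.Agent.Lib.Fong.Block
import Cfsg.Agent.Lib.HallHigman.PSolvable

/-!
# Group theory around `O_{p',p}`

`relIndex_pPrimePCore`: `O_{p',p} / O_{p'}` has `p`-power order; `le_sup_of_not_dvd`: a `p`-subgroup
of index prime to `p` supplements `N` in `L`; `mem_of_mem_of_pRegular`: `p`-regular elements of `L`
lie in `N`.
-/

set_option autoImplicit false

namespace Cfsg.Agent.Fong

open Cfsg

variable {G : Type*} [Group G] [Finite G] {p : ℕ} [hp : Fact p.Prime]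

theorem relIndex_pPrimePCore :
    ∃ k, (Cfsg.pPrimeCore p G).relIndex (Cfsg.pPrimePCore p G) = p ^ k := by
  have h := Subgroup.relIndex_ker (Cfsg.pPrimePCore p G) (QuotientGroup.mk' (Cfsg.pPrimeCore p G))
  rw [QuotientGroup.ker_mk', HallHigman.map_pPrimePCore] at h
  obtain ⟨k, hk⟩ := IsPGroup.iff_card.mp (Cores.isPGroup_pCore p (G ⧸ Cfsg.pPrimeCore p G))
  exact ⟨k, h.trans hk⟩

theorem not_dvd_card_pPrimeCore : ¬ p ∣ Nat.card (Cfsg.pPrimeCore p G) :=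
  (hp.out.coprime_iff_not_dvd).1 (Cores.coprime_card_pPrimeCore p).symm

theorem le_sup_of_not_dvd {N L Q : Subgroup G} [N.Normal] (hNL : N ≤ L) {k : ℕ}
    (hLN : N.relIndex L = p ^ k) (hQL : Q ≤ L) (hQS : ¬ p ∣ Q.relIndex L) : L ≤ N ⊔ Q := by
  rw [← Subgroup.relIndex_eq_one]
  have h1 : (N ⊔ Q).relIndex L ∣ p ^ k := hLN ▸ Subgroup.relIndex_dvd_of_le_left L le_sup_left
  have h2 : (N ⊔ Q).relIndex L ∣ Q.relIndex L := Subgroup.relIndex_dvd_of_le_left L le_sup_right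
  let _ := hQL
  let _ := hNL
  obtain ⟨j, -, hj⟩ := (Nat.dvd_prime_pow hp.out).1 h1
  rcases j with _ | j
  · rw [hj, pow_zero]
  · exact absurd ((hj ▸ dvd_pow_self p j.succ_ne_zero).trans h2) hQS

theorem mem_of_mem_of_pRegular {N L : Subgroup G} [N.Normal] {k : ℕ} (hLN : N.relIndex L = p ^ k)
    {x : G} (hx : x ∈ L) (hreg : ¬ p ∣ orderOf x) : x ∈ N := by
  have h1 : orderOf (QuotientGroup.mk' (N.subgroupOf L) ⟨x, hx⟩) ∣ p ^ k := by
    rw [← hLN]
    exact orderOf_dvd_natCard _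
  have h2 : orderOf (QuotientGroup.mk' (N.subgroupOf L) ⟨x, hx⟩) ∣ orderOf x := by
    refine dvd_trans (orderOf_map_dvd _ _) (dvd_of_eq ?_)
    exact (Subgroup.orderOf_coe (⟨x, hx⟩ : L)).symm
  obtain ⟨j, -, hj⟩ := (Nat.dvd_prime_pow hp.out).1 h1
  rcases j with _ | j
  · rw [pow_zero, orderOf_eq_one_iff, QuotientGroup.mk'_apply, QuotientGroup.eq_one_iff] at hj
    exact hj
  · exact absurd ((hj ▸ dvd_pow_self p j.succ_ne_zero).trans h2) hreg

end Cfsg.Agent.Fong
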